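-- Team project LSF (S5286): package [MEM] (helper3).
import Mathlib
import Cfsg.Agent.Lib.Helper67.LSF.Defs

set_option autoImplicit false

namespace Cfsg.Agent.Lib.Helper3.LSF

open Cfsg Cfsg.Agent.Lib.Helper67.LSF

universe u

variable {Ω : Type u} [Group Ω] {S : Subgroup Ω}

theorem inl_mul_inr_h3 (F : FusionSystem S) (w : FreeGroup (X F)) (q : Equiv.Perm S) :
    (SemidirectProduct.inl w * SemidirectProduct.inr q : Ghat F) =
      SemidirectProduct.inr q * SemidirectProduct.inl (autF F q⁻¹ w) := by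
  apply SemidirectProduct.ext
  · simp [SemidirectProduct.mul_left]
  · simp [SemidirectProduct.mul_right]

theorem tGen_mul_h3 (F : FusionSystem S) (i : Idx F) (q : Equiv.Perm S) (L : List (X F × Bool)) :
    tGen i * (SemidirectProduct.inr q * SemidirectProduct.inl (FreeGroup.mk L) : Ghat F) =
      SemidirectProduct.inr (i.σ * q) * SemidirectProduct.inl (FreeGroup.mk
        ((⟨i, ((q⁻¹ : Equiv.Perm S) : Equiv.Perm S ⧸ Lam i)⟩, true) :: L)) := by
  have h1 : autF F q⁻¹ (FreeGroup.of (x0 i)) =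
      FreeGroup.of (⟨i, ((q⁻¹ : Equiv.Perm S) : Equiv.Perm S ⧸ Lam i)⟩ : X F) := by
    rw [autF, autX_of, x0, xperm_mk, mul_one]
  have h2 : FreeGroup.mk ((⟨i, ((q⁻¹ : Equiv.Perm S) : Equiv.Perm S ⧸ Lam i)⟩, true) :: L) =
      FreeGroup.of (⟨i, ((q⁻¹ : Equiv.Perm S) : Equiv.Perm S ⧸ Lam i)⟩ : X F) * FreeGroup.mk L := by
    rw [FreeGroup.of, FreeGroup.mul_mk]
    rfl
  rw [tGen, mul_assoc, ← mul_assoc (SemidirectProduct.inl _) (SemidirectProduct.inr q),
    inl_mul_inr_h3, h1, mul_assoc, ← map_mul, ← mul_assoc, ← map_mul, h2]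

theorem tGen_inv_mul_h3 (F : FusionSystem S) (i : Idx F) (q : Equiv.Perm S)
    (L : List (X F × Bool)) :
    (tGen i)⁻¹ * (SemidirectProduct.inr q * SemidirectProduct.inl (FreeGroup.mk L) : Ghat F) =
      SemidirectProduct.inr (i.σ⁻¹ * q) * SemidirectProduct.inl (FreeGroup.mk
        ((⟨i, ((q⁻¹ * i.σ : Equiv.Perm S) : Equiv.Perm S ⧸ Lam i)⟩, false) :: L)) := by
  have h1 : autF F (i.σ⁻¹ * q)⁻¹ (FreeGroup.of (x0 i))⁻¹ =
      (FreeGroup.of (⟨i, ((q⁻¹ * i.σ : Equiv.Perm S) : Equiv.Perm S ⧸ Lam i)⟩ : X F))⁻¹ := by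
    rw [map_inv, autF, autX_of, x0, xperm_mk, mul_one, mul_inv_rev, inv_inv]
  have h2 : FreeGroup.mk ((⟨i, ((q⁻¹ * i.σ : Equiv.Perm S) : Equiv.Perm S ⧸ Lam i)⟩, false) :: L) =
      (FreeGroup.of (⟨i, ((q⁻¹ * i.σ : Equiv.Perm S) : Equiv.Perm S ⧸ Lam i)⟩ : X F))⁻¹ *
        FreeGroup.mk L := by
    rw [FreeGroup.of, FreeGroup.inv_mk, FreeGroup.mul_mk]
    rfl
  rw [tGen, mul_inv_rev, ← map_inv, ← map_inv, mul_assoc, ← mul_assoc (SemidirectProduct.inr _)
    (SemidirectProduct.inr q), ← map_mul, ← mul_assoc, inl_mul_inr_h3, h1, mul_assoc, ← map_mul, h2]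

/-- [MEM] paths give elements of the group. -/
theorem pkgMem : PkgMem.{u} := by
  intro Ω _ S F L q hp
  induction hp with
  | nil s =>
    have h : (SemidirectProduct.inr (lam S s) * SemidirectProduct.inl (FreeGroup.mk []) : Ghat F) =
        aGen F s := by
      have h1 : (FreeGroup.mk [] : FreeGroup (X F)) = 1 := rfl
      rw [h1, map_one, mul_one]
      rfl
    rw [h]
    exact Subgroup.subset_closure (Or.inl ⟨s, rfl⟩)
  | @a s L' q' hp ih =>
    have h : (SemidirectProduct.inr (lam S s * q') * SemidirectProduct.inl (FreeGroup.mk L') :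
        Ghat F) = aGen F s * (SemidirectProduct.inr q' * SemidirectProduct.inl (FreeGroup.mk L')) := by
      rw [map_mul, mul_assoc]
      rfl
    rw [h]
    exact (GG F).mul_mem (Subgroup.subset_closure (Or.inl ⟨s, rfl⟩)) ih
  | t i hp ih =>
    rw [← tGen_mul_h3]
    exact (GG F).mul_mem (Subgroup.subset_closure (Or.inr ⟨i, rfl⟩)) ih
  | t' i hp ih =>
    rw [← tGen_inv_mul_h3]
    exact (GG F).mul_mem ((GG F).inv_mem (Subgroup.subset_closure (Or.inr ⟨i, rfl⟩))) ih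

end Cfsg.Agent.Lib.Helper3.LSF
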