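-- Team project LSF (S5286): package [STAB] (helper3).
import Mathlib
import Cfsg.Agent.Lib.Helper67.LSF.Defs

set_option autoImplicit false

namespace Cfsg.Agent.Lib.Helper3.LSF

open Cfsg Cfsg.Agent.Lib.Helper67.LSF

universe u

/-- [STAB] the elements of the group with trivial free part are those of `lam S`. -/
theorem pkgStab (hPath : PkgPath.{u}) (hRed : PkgRed.{u}) (hInv : PkgInv.{u}) : PkgStab.{u} := by
  classical
  intro Ω _ S F g hg hleft
  obtain ⟨L, q, hp, rfl⟩ := hPath S F g hg
  obtain ⟨L', hp', hred, hmk⟩ := hRed S F L q hp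
  have h1 : autF F q (FreeGroup.mk L) = 1 := by
    have h0 : (SemidirectProduct.inr q * SemidirectProduct.inl (FreeGroup.mk L) : Ghat F).left =
        autF F q (FreeGroup.mk L) := by
      rw [SemidirectProduct.mul_left, SemidirectProduct.left_inr, SemidirectProduct.right_inr,
        SemidirectProduct.left_inl, one_mul]
    rw [← h0]
    exact hleft
  have h2 : FreeGroup.mk L = 1 := by
    have := congrArg (autF F q).symm h1
    simpa using this
  have h3 : L' = [] := by
    have h4 : FreeGroup.mk L' = 1 := hmk.trans h2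
    have h5 := congrArg FreeGroup.toWord h4
    rw [FreeGroup.toWord_mk, FreeGroup.toWord_one, hred.reduce_eq] at h5
    exact h5
  subst h3
  obtain ⟨s, hs⟩ := (hInv S F).1 q hp'
  refine ⟨s, ?_⟩
  rw [h2, hs]
  simp [aGen]

end Cfsg.Agent.Lib.Helper3.LSF
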